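import Cfsg.Agent.SM.CS.Defs
import Cfsg.Agent.H89.Cov.OgSU
import Cfsg.Agent.H558.Cov.OgO
import Cfsg.Agent.H659.CovForms
import Cfsg.Agent.H177.Rg.SpOver
import Cfsg.Agent.H921.UnitBase

/-!
# SM (S3570), box CS-Nat: a proper subgroup of the classical group contains no classical group of the same space (helper23)

* `Nt.unit`, `Nt.orth`, `Nt.symp` : the three cases;
* `boxNat : BoxNat`.
-/

set_option autoImplicit false
set_option linter.unusedSectionVars false

namespace Cfsg.Agent.SM.CS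

open Cfsg Cfsg.Geo Matrix Subgroup
open Cfsg.Agent.H915.LD (FixQ)

namespace Nt

variable {ι : Type} [Fintype ι] [DecidableEq ι] {K : Type} [Field K] [Fintype K]

theorem not_ext (H : Subgroup (GL ι K)) : ¬ H278.Cov.Ext 1 H := by
  rintro ⟨r, -, hr, h1, -⟩
  exact hr.one_lt.ne' (Nat.dvd_one.1 h1)

/-- proper subgroups of `SU(f)` -/
theorem unit (hn : 5 ≤ Fintype.card ι) {q : ℕ} (hK : Fintype.card K = q ^ 2) {f : (ι → K) → (ι → K) → K}
    (hf : IsUnitaryFormPow q f) {P : Subgroup (GL ι K)} (hle : P ≤ Iso f ⊓ specialLinear ι K)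
    (hne : ¬ Iso f ⊓ specialLinear ι K ≤ P) : ¬ NatG P := by
  intro h
  have hu := (H921.isUnitaryForm_iff hK).2 ((H921.isUnitaryFormPow_iff hK).1 hf)
  refine not_ext P (H89.Cov.ext_of_outcome hn hu ?_ ?_ (Or.inr h))
  · rintro _ ⟨x, hx, rfl⟩ u v
    exact (hle hx).1 u v
  · obtain ⟨x, hx, hxP⟩ := SetLike.not_le_iff_exists.1 hne
    exact ⟨x, H89.Cov.fixesForm_singleton.2 hx.1, hx.2, hxP⟩

/-- proper subgroups of `Ω(Q)` -/
theorem orth (hn : 5 ≤ Fintype.card ι) {Q : (ι → K) → K} (hQ : IsNondegenerateQuadraticForm Q)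
    {P : Subgroup (GL ι K)} (hle : P ≤ omegaGL Q) (hne : ¬ omegaGL Q ≤ P) : ¬ NatG P := fun h =>
  not_ext P (H558.Cov.ext_of_outcome hn hQ hle (fun e => hne e.ge) (Or.inr h))

/-- overgroups of `Ω(Q)` inside the isometry group of a proportional alternating form, characteristic two -/
theorem overg (hn : 5 ≤ Fintype.card ι) (h2 : (2 : K) = 0) {Q : (ι → K) → K} (hQ : IsNondegenerateQuadraticForm Q)
    {P : Subgroup (GL ι K)} (hle : P ≤ Iso (QuadraticMap.polar Q)) (hom : omegaGL Q ≤ P) :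
    FixesQuadForm (matrixSet P) Q ∨ Iso (QuadraticMap.polar Q) ≤ P := by
  have h := H177.Rg.sp_over_of_finite (Q := H925.qf hQ)
    (H := P.map (LieClassical.OrthFinite.glEquiv ι K).toMonoidHom) h2 (H925.nondeg_qf hQ)
    (by rwa [Module.finrank_fintype_fun_eq_card])
    (by
      rintro _ ⟨x, hx, rfl⟩ u v
      exact hle hx u v)
    (by
      rw [← H925.map_omegaGL_eq hQ hn]
      exact Subgroup.map_mono hom)
  rcases h with h | h
  · left
    rintro _ ⟨x, hx, rfl⟩ v
    exact h ⟨x, hx, rfl⟩ v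
  · right
    intro x hx
    obtain ⟨y, hy, e⟩ := h (LieClassical.OrthFinite.glEquiv ι K x) fun u v => hx u v
    have : y = x := (LieClassical.OrthFinite.glEquiv ι K).injective e
    exact this ▸ hy

/-- proper subgroups of `Sp(f)`, characteristic two, which fix no quadratic form -/
theorem symp (hn : 5 ≤ Fintype.card ι) (h2 : (2 : K) = 0) {f : (ι → K) → (ι → K) → K} (hf : IsSymplecticForm f)
    {P : Subgroup (GL ι K)} (hle : P ≤ Iso f) (hne : ¬ Iso f ≤ P) (hq : ¬ FixQ P) : ¬ NatG P := by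
  have hfix : FixesForm (matrixSet P) f := by
    rintro _ ⟨x, hx, rfl⟩ u v
    exact hle hx u v
  have hl : H659.CovForms.LL f := ⟨hf.bilinear.add_left, hf.bilinear.smul_left⟩
  have hr := hf.bilinear.add_right
  obtain ⟨i₀⟩ : Nonempty ι := Fintype.card_pos_iff.1 (by omega)
  have hz : (Pi.single i₀ 1 : ι → K) ≠ 0 := by
    intro h
    have := congrFun h i₀
    rw [Pi.single_eq_same, Pi.zero_apply] at this
    exact one_ne_zero this
  obtain ⟨w₀, hw₀⟩ := (hf.nondegenerate _ hz).1
  rintro (h | ⟨f₂, hf₂, h⟩ | ⟨τ, B, hB, h⟩ | ⟨Q, hQ, h⟩)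
  · exact hw₀ (H659.CovForms.sl_alternating h (by omega) hf.bilinear hf.alternating hfix _ _)
  · obtain ⟨κ, hκ⟩ := H659.CovForms.symp_prop hf hf₂ hfix h
    have hκ0 : κ ≠ 0 := by
      rintro rfl
      exact hw₀ (by rw [hκ, zero_mul])
    refine hne fun x hx => h x ?_
    rintro _ rfl u v
    have h1 : f ((x : Matrix ι ι K) *ᵥ u) ((x : Matrix ι ι K) *ᵥ v) = f u v := hx u v
    rw [hκ, hκ] at h1
    exact mul_left_cancel₀ hκ0 h1
  · have hm := H659.CovForms.hm_of_unitary hB
    obtain ⟨a, ha, -⟩ := hm.exists_orth (m := 0) (by omega) ![] (fun i => i.elim0) (fun i => i.elim0)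
    have ha0 : a ≠ 0 := by
      rintro rfl
      exact ha (hm.ll.zero 0)
    obtain ⟨w, hw⟩ := (hf.nondegenerate a ha0).2
    obtain ⟨c, hc⟩ := hm.split ha w
    apply hw
    have e : w = (w - c • a) + c • a := by abel
    rw [e, hr, H659.CovForms.su_perp hB (by omega) h hl hr hfix ha hc, hf.bilinear.smul_right, hf.alternating,
      mul_zero, add_zero]
  · have h1 : FixesForm (matrixSet (omegaGL Q)) f := by
      rintro _ ⟨x, hx, rfl⟩ u v
      exact hle (h hx) u v
    obtain ⟨c, hc⟩ := H920.form_unique (H925.Nat.omegaGL_absIrr hQ hn) hQ.polar_bilinear hQ.nondegenerate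
      (H914.fixesForm_polar (H925.Nat.omegaGL_fixes Q)) hf.bilinear h1
    have hc0 : c ≠ 0 := by
      rintro rfl
      exact hw₀ (by rw [hc, zero_mul])
    have h3 : Iso f = Iso (QuadraticMap.polar Q) := by
      ext x
      constructor
      · intro hx u v
        have h4 : f ((x : Matrix ι ι K) *ᵥ u) ((x : Matrix ι ι K) *ᵥ v) = f u v := hx u v
        rw [hc, hc] at h4
        exact mul_left_cancel₀ hc0 h4
      · intro hx u v
        have h4 : QuadraticMap.polar Q ((x : Matrix ι ι K) *ᵥ u) ((x : Matrix ι ι K) *ᵥ v) =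
          QuadraticMap.polar Q u v := hx u v
        change f ((x : Matrix ι ι K) *ᵥ u) ((x : Matrix ι ι K) *ᵥ v) = f u v
        rw [hc, hc, h4]
    rw [h3] at hle hne
    rcases overg hn h2 hQ hle h with h4 | h4
    · exact hq ⟨Q, hQ, h4⟩
    · exact hne h4

theorem two_eq_zero (h : Even (Fintype.card K)) : (2 : K) = 0 := by
  have h1 : ringChar K = 2 := FiniteField.even_card_iff_char_two.2 (Nat.even_iff.1 h)
  have h2 : ((2 : ℕ) : K) = 0 := by
    rw [← h1]
    exact ringChar.Nat.cast_ringChar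
  exact_mod_cast h2

/-- the polar form in characteristic two -/
theorem symp_polar (h2 : (2 : K) = 0) {Q : (ι → K) → K} (hQ : IsNondegenerateQuadraticForm Q) :
    IsSymplecticForm (QuadraticMap.polar Q) where
  bilinear := hQ.polar_bilinear
  skew v w := by
    rw [QuadraticMap.polar_comm Q v w]
    linear_combination QuadraticMap.polar Q w v * h2
  alternating v := by rw [H659.CovForms.polar_self hQ, h2, zero_mul]
  nondegenerate := hQ.nondegenerate

end Nt

/-- **[CS-Nat]** -/
theorem boxNat : BoxNat := by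
  intro ι _ _ K _ _ k q m B Sg G X Y P hS hC
  have hn : 5 ≤ Fintype.card ι := le_trans (by norm_num) hC.big
  have hle : P ≤ G := hC.core.le.trans hC.le
  have hne : ¬ G ≤ P := fun h => hC.prop (h.trans (hC.core.le.trans le_sup_left))
  have hq := hC.nq
  clear hC
  cases hS with
  | u f hf hK hd v hv => exact Nt.unit hn hK hf hle hne
  | p1 Q hQ hp hK hd v hv => exact Nt.orth hn hQ hle hne
  | p2 Q hQ hp hK hd W h2 hW => exact Nt.orth hn hQ hle hne
  | o Q hQ hK ho hd W h2 hN hW => exact Nt.orth hn hQ hle hne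
  | s Q hQ hp hK he hd =>
    have h2 : (2 : K) = 0 := Nt.two_eq_zero (hK ▸ he)
    exact Nt.symp hn h2 (Nt.symp_polar h2 hQ) hle hne (hq rfl)

end Cfsg.Agent.SM.CS
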